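import Mathlib
import Cfsg.Agent.Lib.PSL2Sub.Existence

/-!
# Maximality of the exceptional and subfield subgroups of `PSL₂(q)`
-/

set_option autoImplicit false
set_option linter.unusedSectionVars false

namespace CfsgLib.PSL2Max

open CfsgLib.PSL2Sub Matrix OnePoint

/-- Squares whose commutator does not have exponent `p`: such subgroups avoid cyclic, dihedral and
Borel overgroups. -/
def Witness {G : Type*} [Group G] (p : ℕ) (H : Subgroup G) : Prop :=
  ∃ a ∈ H, ∃ b ∈ H, (a * a * (b * b) * (a * a)⁻¹ * (b * b)⁻¹) ^ p ≠ 1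

theorem alt_four_witness :
    ∃ a b : alternatingGroup (Fin 4), a * a * (b * b) * (a * a)⁻¹ * (b * b)⁻¹ ≠ 1 ∧
      (a * a * (b * b) * (a * a)⁻¹ * (b * b)⁻¹) * (a * a * (b * b) * (a * a)⁻¹ * (b * b)⁻¹) = 1 := by
  decide +kernel

theorem pow_eq_self_of_sq {G : Type*} [Monoid G] {c : G} (h : c * c = 1) {p : ℕ} (hp : Odd p) :
    c ^ p = c := by
  obtain ⟨j, rfl⟩ := hp
  rw [pow_succ, pow_mul, pow_two, h, one_pow, one_mul]

theorem witness_of_alt_four {G : Type*} [Group G] {p : ℕ} (hp : Odd p) {H : Subgroup G}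
    (φ : alternatingGroup (Fin 4) →* H) (hφ : Function.Injective φ) : Witness p H := by
  obtain ⟨a, b, h1, h2⟩ := alt_four_witness
  refine ⟨φ a, (φ a).2, φ b, (φ b).2, fun h => h1 (hφ (Subtype.ext ?_))⟩
  rw [← pow_eq_self_of_sq h2 hp, map_one, map_pow]
  simpa using h

variable {F : Type*} [Field F] [Fintype F] [DecidableEq F] (p : ℕ) [Fact p.Prime] [CharP F p]

theorem Witness.not_cyclic {H K : Subgroup (PS F)} (hw : Witness p H) (hHK : H ≤ K) :
    ¬ IsCyclic K := by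
  intro _
  obtain ⟨a, ha, b, hb, h⟩ := hw
  letI := IsCyclic.commGroup (α := K)
  have hcm := mul_comm ((⟨a, hHK ha⟩ : K) * ⟨a, hHK ha⟩) (⟨b, hHK hb⟩ * ⟨b, hHK hb⟩)
  replace hcm := congrArg Subtype.val hcm
  simp only [Subgroup.coe_mul] at hcm
  exact h (by rw [hcm, mul_inv_cancel_right, mul_inv_cancel, one_pow])

theorem dihedral_sq_comm {k : ℕ} (x y : DihedralGroup k) : x * x * (y * y) = y * y * (x * x) := by
  cases x <;> cases y <;> simp [add_comm]

theorem Witness.not_dihedral {H K : Subgroup (PS F)} (hw : Witness p H) (hHK : H ≤ K) {k : ℕ}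
    (e : K ≃* DihedralGroup k) : False := by
  obtain ⟨a, ha, b, hb, h⟩ := hw
  have hcm := dihedral_sq_comm (e ⟨a, hHK ha⟩) (e ⟨b, hHK hb⟩)
  rw [← map_mul, ← map_mul, ← map_mul, ← map_mul] at hcm
  replace hcm := congrArg Subtype.val (e.injective hcm)
  simp only [Subgroup.coe_mul] at hcm
  exact h (by rw [hcm, mul_inv_cancel_right, mul_inv_cancel, one_pow])

theorem Witness.not_fix {H K : Subgroup (PS F)} (hw : Witness p H) (hHK : H ≤ K) {y : OnePoint F}
    (hy : ∀ g ∈ K, toPG g • y = y) : False := by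
  obtain ⟨a, ha, b, hb, h⟩ := hw
  obtain ⟨c, rfl⟩ := exists_smul_infty y
  have hmem : ∀ g ∈ K, ∃ (u : Fˣ) (t : F), c⁻¹ * toPG g * c = aff u t := fun g hg =>
    exists_aff_of_fix_infty (by rw [mul_smul, mul_smul, hy g hg, inv_smul_smul])
  obtain ⟨u, s, hu⟩ := hmem (a * a) (K.mul_mem (hHK ha) (hHK ha))
  obtain ⟨v, t, hv⟩ := hmem (b * b) (K.mul_mem (hHK hb) (hHK hb))
  set g := a * a * (b * b) * (a * a)⁻¹ * (b * b)⁻¹ with hg
  obtain ⟨w, r, hw'⟩ := hmem g (K.mul_mem (K.mul_mem (K.mul_mem (K.mul_mem (hHK ha) (hHK ha))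
    (K.mul_mem (hHK hb) (hHK hb))) (K.inv_mem (K.mul_mem (hHK ha) (hHK ha))))
    (K.inv_mem (K.mul_mem (hHK hb) (hHK hb))))
  have he : aff w r * (aff v t * aff u s) = aff u s * aff v t := by
    rw [← hw', ← hu, ← hv, hg]
    simp only [map_mul, map_inv]
    group
  rw [aff_mul, aff_mul, aff_mul] at he
  have hw1 : w = 1 := by
    have := (aff_injective he).1
    rw [mul_comm u v] at this
    exact mul_eq_right.1 this
  rw [hw1] at hw'
  apply h
  apply toPG_injective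
  rw [map_one, map_pow, show toPG g = c * aff 1 r * c⁻¹ by rw [← hw']; group, conj_pow,
    translation_pow_char p, mul_one, mul_inv_cancel]

/-- The maximality criterion. -/
theorem isCoatom_of {H : Subgroup (PS F)} (hw : Witness p H) (htop : H ≠ ⊤)
    (hexc : ∀ K : Subgroup (PS F), H < K → K ≠ ⊤ →
      ((¬ p ∣ Nat.card K ∧ Nonempty (K ≃* alternatingGroup (Fin 4))) ∨
       (¬ p ∣ Nat.card K ∧ Nonempty (K ≃* Equiv.Perm (Fin 4))) ∨
       ((¬ p ∣ Nat.card K ∨ p = 3) ∧ Nonempty (K ≃* alternatingGroup (Fin 5)))) → False)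
    (hfield : ∀ K : Subgroup (PS F), H < K → K ≠ ⊤ → ∀ E : Subfield F,
      (Nonempty (K ≃* PG E) ∨ (p ≠ 2 ∧ Nonempty (K ≃* PS E))) → False) : IsCoatom H := by
  refine ⟨htop, fun K hK => ?_⟩
  by_contra hKtop
  rcases classify_psl p K with h | ⟨k, -, -, -, ⟨e⟩⟩ | ⟨-, y, hy⟩ | h | h | h | ⟨E, hE⟩
  · exact hw.not_cyclic p hK.le h.1
  · exact hw.not_dihedral p hK.le e
  · exact hw.not_fix p hK.le hy
  · exact hexc K hK hKtop (Or.inl h)
  · exact hexc K hK hKtop (Or.inr (Or.inl h))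
  · exact hexc K hK hKtop (Or.inr (Or.inr h))
  · exact hfield K hK hKtop E hE

omit [DecidableEq F] in
theorem card_lt_of_lt {H K : Subgroup (PS F)} (h : H < K) :
    Nat.card H < Nat.card K ∧ Nat.card H ∣ Nat.card K :=
  ⟨lt_of_le_of_ne (Subgroup.card_le_of_le h.le) fun e => h.ne (Subgroup.eq_of_le_of_card_ge h.le e.ge),
    Subgroup.card_dvd_of_le h.le⟩

theorem card_PG (K : Type*) [Field K] [Fintype K] :
    Nat.card (PG K) = Fintype.card K * (Fintype.card K ^ 2 - 1) := by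
  classical
  rw [Linear.card_PGL, Linear.card_SL_two]

/-- A subgroup of subfield type has order dividing that of `PGL₂` of the subfield. -/
theorem card_dvd_of_field {K : Subgroup (PS F)} {E : Subfield F}
    (hE : Nonempty (K ≃* PG E) ∨ (p ≠ 2 ∧ Nonempty (K ≃* PS E))) :
    Nat.card K ∣ Nat.card E * (Nat.card E ^ 2 - 1) := by
  classical
  letI := Fintype.ofFinite E
  rw [Nat.card_eq_fintype_card (α := E)]
  rcases hE with ⟨⟨e⟩⟩ | ⟨-, ⟨e⟩⟩
  · rw [Nat.card_congr e.toEquiv, card_PG]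
  · rw [Nat.card_congr e.toEquiv]
    exact Dvd.intro_left _ gcd_mul_card_PS

omit [DecidableEq F] in
/-- A proper subgroup of subfield type sees a proper subfield. -/
theorem exists_card_subfield {K : Subgroup (PS F)} (hK : K ≠ ⊤) {E : Subfield F}
    (hE : Nonempty (K ≃* PG E) ∨ (p ≠ 2 ∧ Nonempty (K ≃* PS E))) :
    ∃ g m : ℕ, 0 < g ∧ 2 ≤ m ∧ Nat.card E = p ^ g ∧ Fintype.card F = p ^ (g * m) ∧
      Nat.card E * Nat.card E ≤ Fintype.card F := by
  classical
  letI := Fintype.ofFinite E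
  haveI : CharP E p := (RingHom.charP_iff E.subtype Subtype.coe_injective p).mpr inferInstance
  obtain ⟨g, -, hg⟩ := FiniteField.card E p
  rw [← Nat.card_eq_fintype_card] at hg
  obtain ⟨-, -, hle, -⟩ := field_bounds p hK hE
  obtain ⟨m, hm0, hm⟩ := card_subfield_pow E
  have hm2 : 2 ≤ m := by
    by_contra hlt
    obtain rfl : m = 1 := by omega
    rw [pow_one] at hm
    rw [← hm] at hle
    have : 2 ≤ Nat.card E := Finite.one_lt_card
    have := Nat.mul_le_mul_right (Nat.card E) this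
    omega
  exact ⟨g, m, g.pos, hm2, hg, by rw [pow_mul, ← hg, hm], hle⟩

/-- Subfields large enough to contain `PSL₂(pᶠ)`. -/
theorem dvd_of_card_dvd {p f g : ℕ} (hp : 2 ≤ p) (hf : 0 < f) (hg : 0 < g)
    (h : p ^ f * ((p ^ f) ^ 2 - 1) ∣ 2 * (p ^ g * ((p ^ g) ^ 2 - 1))) : f ∣ g := by
  have hcop : Nat.Coprime ((p ^ f) ^ 2 - 1) (p ^ g) := by
    apply Nat.Coprime.pow_right
    have h1 : 1 ≤ (p ^ f) ^ 2 := Nat.one_le_pow _ _ (by positivity)
    have h2 : p ∣ (p ^ f) ^ 2 := Dvd.dvd.pow (dvd_pow_self p hf.ne') two_ne_zero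
    refine Nat.coprime_of_dvd' fun k hk ha hb => ?_
    exact (Nat.dvd_add_right ha).1 (by rw [Nat.sub_add_cancel h1]; exact hb.trans h2)
  have h1 : (p ^ f) ^ 2 - 1 ∣ 2 * ((p ^ g) ^ 2 - 1) :=
    hcop.dvd_of_dvd_mul_left ((dvd_mul_left _ _).trans (by rwa [mul_left_comm] at h))
  rw [← pow_mul, ← pow_mul] at h1
  have h2 := Nat.dvd_gcd (dvd_mul_left (p ^ (f * 2) - 1) 2) h1
  rw [Nat.gcd_mul_left, Nat.pow_sub_one_gcd_pow_sub_one, Nat.gcd_mul_right] at h2
  set d := f.gcd g with hd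
  have hd0 : 0 < d := Nat.gcd_pos_of_pos_left _ hf
  rcases (Nat.le_of_dvd hf (Nat.gcd_dvd_left f g)).eq_or_lt with he | hlt
  · exact he ▸ Nat.gcd_dvd_right f g
  exfalso
  have h2d : 2 * d ≤ f := by
    obtain ⟨c, hc⟩ := Nat.gcd_dvd_left f g
    rw [← hd] at hc
    rcases c with _ | _ | c
    · simp at hc; omega
    · simp at hc; omega
    · rw [hc, mul_comm 2 d]; exact Nat.mul_le_mul_left _ (by omega)
  have h3 : p ^ (d * 2) ≤ p ^ f := Nat.pow_le_pow_right (by omega) (by omega)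
  have h4 : p ^ (f * 2) = p ^ f * p ^ f := by rw [mul_two, pow_add]
  have h5 : 2 ≤ p ^ f := hp.trans (Nat.le_self_pow hf.ne' p)
  have h6 : 1 < p ^ (d * 2) := Nat.one_lt_pow (by omega) (by omega)
  have h7 := Nat.le_of_dvd (by omega) h2
  have h8 := Nat.mul_le_mul_right (p ^ f) h5
  omega

/-- In characteristic two `PSL₂` of a field with more than two elements is a witness. -/
theorem witness_char_two {K : Type*} [Field K] [Fintype K] [CharP K 2] (hK : 2 < Fintype.card K)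
    {G : Type*} [Group G] {H : Subgroup G} (e : H ≃* PS K) : Witness 2 H := by
  classical
  obtain ⟨t, ht0, ht1⟩ : ∃ t : K, t ≠ 0 ∧ t ≠ 1 := by
    obtain ⟨t, -, ht⟩ := Finset.exists_mem_notMem_of_card_lt_card
      (t := (Finset.univ : Finset K)) (s := {0, 1})
      (by rw [Finset.card_univ]; exact Finset.card_le_two.trans_lt hK)
    simp only [Finset.mem_insert, Finset.mem_singleton, not_or] at ht
    exact ⟨t, ht⟩
  have h2 : (2 : K) = 0 := CharTwo.two_eq_zero
  let A : Matrix.SpecialLinearGroup (Fin 2) K :=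
    ⟨!![t, 0; 0, t⁻¹], by simp [Matrix.det_fin_two, ht0]⟩
  let B : Matrix.SpecialLinearGroup (Fin 2) K :=
    ⟨!![1, 1; 1, 0], by rw [Matrix.det_fin_two_of]; linear_combination -(1 : K) * h2⟩
  refine ⟨e.symm (QuotientGroup.mk A), SetLike.coe_mem _, e.symm (QuotientGroup.mk B),
    SetLike.coe_mem _, fun h => ?_⟩
  set C := A * A * (B * B) * (A * A)⁻¹ * (B * B)⁻¹ with hC
  have hmk : (QuotientGroup.mk (C ^ 2) : PS K) = 1 := by
    apply e.symm.injective
    apply Subtype.ext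
    rw [map_one, OneMemClass.coe_one, ← h, hC]
    simp [QuotientGroup.mk_mul, QuotientGroup.mk_inv]
  obtain ⟨r, hr, hrc⟩ := Matrix.SpecialLinearGroup.mem_center_iff.1 (((QuotientGroup.eq_one_iff (N := Subgroup.center (Matrix.SpecialLinearGroup (Fin 2) K)) (C ^ 2)).1 hmk : C ^ 2 ∈ Subgroup.center (Matrix.SpecialLinearGroup (Fin 2) K)))
  have hr1 : r = 1 := by
    have h3 : (r - 1) ^ 2 = 0 := by
      rw [sub_pow_char, one_pow]
      simpa [sub_eq_zero] using hr
    exact sub_eq_zero.1 ((pow_eq_zero_iff two_ne_zero).1 h3)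
  have h00 := congrFun (congrFun hrc 0) 0
  rw [hr1] at h00
  have hA2 : ((A * A : Matrix.SpecialLinearGroup (Fin 2) K) : Matrix (Fin 2) (Fin 2) K) =
      !![t * t, 0; 0, t⁻¹ * t⁻¹] := by
    refine (Matrix.SpecialLinearGroup.coe_mul A A).trans ?_
    show !![t, 0; 0, t⁻¹] * !![t, 0; 0, t⁻¹] = _
    simp
  have hB2 : ((B * B : Matrix.SpecialLinearGroup (Fin 2) K) : Matrix (Fin 2) (Fin 2) K) =
      !![0, 1; 1, 1] := by
    refine (Matrix.SpecialLinearGroup.coe_mul B B).trans ?_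
    show !![(1 : K), 1; 1, 0] * !![1, 1; 1, 0] = _
    simp [h2, one_add_one_eq_two]
  simp only [hC, pow_two] at h00
  generalize A * A = X at hA2 h00
  generalize B * B = Y at hB2 h00
  simp [Matrix.SpecialLinearGroup.coe_inv, Matrix.adjugate_fin_two, Matrix.mul_apply,
    Fin.sum_univ_two, hA2, hB2] at h00
  have h8 : (t - 1) ^ (2 ^ 3) = 0 := by
    rw [sub_pow_char_pow, one_pow]
    field_simp at h00
    linear_combination (norm := (ring_nf; simp [h2])) h00
  exact ht1 (sub_eq_zero.1 ((pow_eq_zero_iff (by norm_num)).1 h8))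

end CfsgLib.PSL2Max
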